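import Groth.Agent.Lib.Perfect.Top
import Groth.Agent.Lib.Perfect.Regular
import Groth.Agent.Lib.Perfect.Amplitude
import Groth.Agent.Lib.Modules.SupportOps
import Groth.Agent.Lib.TensorMod.FPCrit
import Groth.Agent.Lib.Modules.GenStalk

/-!
Pseudo-coherence of a module placed in degree zero.
-/

set_option autoImplicit false
set_option linter.style.haveILetI false

universe u

open CategoryTheory Limits AlgebraicGeometry TopologicalSpace Opposite CategoryTheory.Pretriangulated

namespace Groth.Agent.H56.PCSingle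

open Groth.Agent.Lib Groth.Agent.Lib.Perfect.Basic Groth.Agent.Lib.Perfect.PseudoCoh
open Groth.Agent.Lib.Perfect

attribute [local instance] HasDerivedCategory.standard

variable {X U : Scheme.{u}}

/-- A module in degree zero has cohomology only in degree zero. -/
theorem isZero_HD_inD (M : X.Modules) (i : ℤ) (hi : i ≠ 0) : IsZero (DCoh.HD (DCoh.inD X M) i) := by
  rcases lt_or_gt_of_ne hi with h | h
  · exact DerivedCategory.isZero_of_isGE ((DerivedCategory.singleFunctor X.Modules 0).obj M) 0 i h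
  · exact DerivedCategory.isZero_of_isLE ((DerivedCategory.singleFunctor X.Modules 0).obj M) 0 i h

/-- `H^0` of a module in degree zero. -/
noncomputable def HDInD (M : X.Modules) : DCoh.HD (DCoh.inD X M) 0 ≅ M :=
  (DerivedCategory.singleFunctorCompHomologyFunctorIso X.Modules 0).app M

/-- Every module is `m`-pseudo-coherent for `m > 0`. -/
theorem pcAt_inD_pos (M : X.Modules) (m : ℤ) (hm : 0 < m) (x : X) : PCAt m (DCoh.inD X M) x :=
  pcAt_of_vanish (fun i hi => isZero_HD_inD M i (by omega)) x

/-- A finite free module is pseudo-coherent. -/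
theorem pcAt_inD_freeMod (n : ℕ) (m : ℤ) (x : X) :
    PCAt m (DCoh.inD X (FlatMod.freeMod X n)) x := by
  let E := (CochainComplex.singleFunctor X.Modules 0).obj (FlatMod.freeMod X n)
  refine ⟨X, 𝟙 X, inferInstance, x, (rC (𝟙 X)).obj E,
    (RDQ (𝟙 X) E).inv ≫ (RD (𝟙 X)).map
      ((DerivedCategory.singleFunctorIsoCompQ X.Modules 0).app (FlatMod.freeMod X n)).inv, rfl,
    isStrictlyPerfect_map _ (Amplitude.isStrictlyPerfect_single
      (TensorMod.LocFree.isFinLocFree_freeMod X n) 0), Ascent.Good.of_isIso m _⟩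

/-- An epimorphism of modules is `0`-good in the derived category. -/
theorem good_inD_map {M N : X.Modules} (q : M ⟶ N) [Epi q] :
    Ascent.Good 0 ((DerivedCategory.singleFunctor X.Modules 0).map q) := by
  let iso := DerivedCategory.singleFunctorCompHomologyFunctorIso X.Modules 0
  refine ⟨fun i hi => ⟨⟨0, (isZero_HD_inD M i hi.ne').eq_of_src _ _,
    (isZero_HD_inD N i hi.ne').eq_of_src _ _⟩⟩, ?_⟩
  have e : (DerivedCategory.homologyFunctor X.Modules 0).map
      ((DerivedCategory.singleFunctor X.Modules 0).map q) =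
      (iso.app M).hom ≫ q ≫ (iso.app N).inv := by
    rw [← Category.assoc, Iso.eq_comp_inv]
    exact iso.hom.naturality q
  exact e ▸ inferInstance

/-- A quotient of a finite free module is `0`-pseudo-coherent. -/
theorem pcAt_inD_of_epi {M : X.Modules} {n : ℕ} (q : FlatMod.freeMod X n ⟶ M) [Epi q] (x : X) :
    PCAt 0 (DCoh.inD X M) x := by
  obtain ⟨V, j, _, y, E, α, hy, hE, hα⟩ := pcAt_inD_freeMod n 0 x
  exact ⟨V, j, inferInstance, y, E, α ≫ (RD j).map ((DerivedCategory.singleFunctor X.Modules 0).map q),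
    hy, hE, hα.comp (good_restrict j (good_inD_map q))⟩

/-- Pseudo-coherence of a module can be checked after restriction. -/
theorem pcAt_inD_of_restrict {m : ℤ} {M : X.Modules} (j : U ⟶ X) [IsOpenImmersion j] (y : U)
    (h : PCAt m (DCoh.inD U (M.restrict j)) y) : PCAt m (DCoh.inD X M) (j y) :=
  PCAt.of_restrict rfl (h.of_iso (Regular.RDinD j M).symm)

/-- A module of finite type is locally a quotient of a finite free one. -/
theorem exists_epi_of_isFT {M : X.Modules} (hM : CohB1.IsFT M) (x : X) :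
    ∃ (W : X.Opens) (n : ℕ) (q : FlatMod.freeMod (W : Scheme.{u}) n ⟶ M.restrict W.ι),
      x ∈ W ∧ Epi q := by
  obtain ⟨W, hxW, n, s, hs⟩ := @Modules.GenStalk.exists_span_stalk_of_isFiniteType _ M hM x
  let t : Fin n → Γ(M.restrict W.ι, ⊤) := fun i =>
    M.presheaf.map (homOfLE W.ι_image_top.le).op (s i)
  refine ⟨W, n, Modules.Free.freeHom t, hxW,
    (Modules.Stalk.epi_iff_stalk_surjective _).2 fun y => ?_⟩
  suffices hr : LinearMap.range (Modules.StalkModule.stalkMapₗ (Modules.Free.freeHom t) y) = ⊤ from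
    LinearMap.range_eq_top.1 hr
  let e := Modules.StalkRestrict.restrictStalkAddEquiv W.ι M y
  let S := Set.range fun i => (M.restrict W.ι).presheaf.germ ⊤ y trivial (t i)
  have hS : Submodule.span ((W : Scheme.{u}).presheaf.stalk y) S = ⊤ := by
    refine eq_top_iff.2 fun w _ => ?_
    have himg := Modules.StalkRestrict.span_image_restrictStalkAddEquiv W.ι M y S
    have hSe : e '' S = Set.range fun i => M.presheaf.germ W (W.ι y) y.2 (s i) := by
      rw [← Set.range_comp]
      refine congrArg Set.range (funext fun i => ?_)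
      exact (Modules.StalkRestrict.restrictStalkAddEquiv_germ W.ι M (U := ⊤) trivial (t i)).trans
        (TopCat.Presheaf.germ_res_apply _ _ _ _ _)
    rw [hSe, hs (W.ι y) y.2] at himg
    have : e w ∈ e '' (Submodule.span ((W : Scheme.{u}).presheaf.stalk y) S :
        Set ((M.restrict W.ι).presheaf.stalk y)) := himg ▸ trivial
    exact (e.injective.mem_set_image).1 this
  rw [eq_top_iff, ← hS, Submodule.span_le]
  rintro _ ⟨i, rfl⟩
  exact ⟨_, Modules.Free.freeHom_stalk_germ t y i⟩

theorem pcAt_inD_of_isFT {M : X.Modules} (hM : CohB1.IsFT M) (x : X) :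
    PCAt 0 (DCoh.inD X M) x := by
  obtain ⟨W, n, q, hxW, hq⟩ := exists_epi_of_isFT hM x
  exact pcAt_inD_of_restrict W.ι ⟨x, hxW⟩ (pcAt_inD_of_epi q _)

/-- A finitely presented module has, locally, a finite presentation. -/
theorem exists_presentation {X : Scheme.{u}} (M : X.Modules)
    [SheafOfModules.IsFinitePresentation (R := X.ringCatSheaf) M] (x : X) :
    ∃ (U : X.Opens) (_ : IsAffineOpen U) (_ : x ∈ U)
      (P : SheafOfModules.Presentation (R := (U : Scheme.{u}).ringCatSheaf) (M.restrict U.ι)),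
      P.IsFinite := by
  obtain ⟨σ, hσ⟩ := SheafOfModules.IsFinitePresentation.exists_quasicoherentData
    (show SheafOfModules X.ringCatSheaf from M)
  have hMq : M.IsQuasicoherent :=
    SheafOfModules.IsQuasicoherent.mk (C := X.Opens) (R := X.ringCatSheaf) (M := M) ⟨σ⟩
  obtain ⟨i, hi⟩ : ∃ i, x ∈ σ.X i := by
    obtain ⟨W, f, ⟨i, ⟨g⟩⟩, hW⟩ := σ.coversTop ⊤ x trivial
    exact ⟨i, leOfHom g hW⟩
  obtain ⟨U, hU, hxU, hUW⟩ := exists_isAffineOpen_mem_and_subset hi
  refine ⟨U, hU, hxU, ?_⟩
  let v := X.homOfLE (show U ≤ σ.X i from hUW)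
  have : IsOpenImmersion v := inferInstanceAs (IsOpenImmersion (X.homOfLE (show U ≤ σ.X i from hUW)))
  let F : SheafOfModules.{u} (X.ringCatSheaf.over (σ.X i)) ⥤
      SheafOfModules.{u} (U : Scheme.{u}).ringCatSheaf := (Scheme.Modules.overEquiv (σ.X i)).functor ⋙ Scheme.Modules.restrictFunctor v
  let iso : SheafOfModules.overFunctor X.ringCatSheaf _ ⋙ F ≅
      Scheme.Modules.restrictFunctor U.ι :=
    (Functor.associator _ _ _).symm ≪≫
      Functor.isoWhiskerRight (Scheme.Modules.overFunctorEquiv _) _ ≪≫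
      (Scheme.Modules.restrictFunctorComp _ _).symm ≪≫
      (Scheme.Modules.restrictFunctorCongr (by simp [v]))
  have := hσ.isFinite_presentation i
  have : Finite (σ.presentation i).generators.I :=
    SheafOfModules.GeneratingSections.IsFiniteType.finite
  have : Finite (σ.presentation i).relations.I :=
    SheafOfModules.GeneratingSections.IsFiniteType.finite
  have h1 : PreservesColimitsOfSize.{u, u} (Scheme.Modules.overEquiv (σ.X i)).functor :=
    (Scheme.Modules.overEquiv (σ.X i)).toAdjunction.leftAdjoint_preservesColimits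
  have h2 : PreservesColimitsOfSize.{u, u} (Scheme.Modules.restrictFunctor v) :=
    (Scheme.Modules.restrictAdjunction v).leftAdjoint_preservesColimits
  have hF : PreservesColimitsOfSize.{u, u} F :=
    @comp_preservesColimits _ _ _ _ _ _ (Scheme.Modules.overEquiv (σ.X i)).functor
      (Scheme.Modules.restrictFunctor v) h1 h2
  let P' := (σ.presentation i).map F (Scheme.Modules.restrictUnitIso _).symm
  have : P'.IsFinite :=
    { isFiniteType_generators := ⟨inferInstanceAs (Finite (σ.presentation i).generators.I)⟩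
      isFiniteType_relations := ⟨inferInstanceAs (Finite (σ.presentation i).relations.I)⟩ }
  obtain ⟨e⟩ : Nonempty (F.obj ((SheafOfModules.overFunctor X.ringCatSheaf (σ.X i)).obj M) ≅
      M.restrict U.ι) := ⟨iso.app M⟩
  let P : SheafOfModules.Presentation (R := (U : Scheme.{u}).ringCatSheaf) (M.restrict U.ι) :=
    @SheafOfModules.Presentation.ofIsIso.{u, u, u} _ _ _ _ _ _ _ _ e.hom e.isIso_hom P'
  have hP : P.IsFinite := TensorMod.FPCrit.isFinite_ofIsIso e P'
  exact ⟨P, hP⟩

theorem pcAt_inD_of_isFP {M : X.Modules} (hM : CohB1.IsFP M) (x : X) :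
    PCAt (-1) (DCoh.inD X M) x := by
  obtain ⟨U, hU, hxU, P, hP⟩ := @exists_presentation X M hM x
  refine pcAt_inD_of_restrict U.ι ⟨x, hxU⟩ ?_
  have : Finite P.generators.I :=
    (SheafOfModules.Presentation.IsFinite.isFiniteType_generators (p := P)).finite
  have : Finite P.relations.I :=
    (SheafOfModules.Presentation.IsFinite.isFiniteType_relations (p := P)).finite
  obtain ⟨n, ⟨e⟩⟩ := Finite.exists_equiv_fin P.generators.I
  obtain ⟨k, ⟨e'⟩⟩ := Finite.exists_equiv_fin P.relations.I
  let Y : Scheme.{u} := U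
  let N : Y.Modules := M.restrict U.ι
  let ρ : ∀ {J : Type u} {k : ℕ}, J ≃ Fin k →
      (SheafOfModules.free (R := Y.ringCatSheaf) J ≅ FlatMod.freeMod Y k) := fun {J k} g =>
    Sigma.whiskerEquiv (C := Y.Modules) (f := fun _ : J => Coh.structureModule Y)
      (g := fun _ : Fin k => Coh.structureModule Y) g fun _ => Iso.refl _
  let p : FlatMod.freeMod Y n ⟶ N := (ρ e).inv ≫ P.generators.π
  have hp : Epi p :=
    @epi_comp _ _ _ _ _ _ (@IsIso.epi_of_iso _ _ _ _ _ (Iso.isIso_inv _)) _ P.generators.epi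
  let i : (kernel P.generators.π : Y.Modules) ≅ kernel p :=
    kernel.mapIso _ _ (ρ e) (Iso.refl N)
      ((Category.comp_id _).trans (Iso.hom_inv_id_assoc (ρ e) _).symm)
  let q : FlatMod.freeMod Y k ⟶ kernel p := (ρ e').inv ≫ P.relations.π ≫ i.hom
  have hq : Epi q :=
    @epi_comp _ _ _ _ _ _ (@IsIso.epi_of_iso _ _ _ _ _ (Iso.isIso_inv _)) _
      (@epi_comp _ _ _ _ _ _ P.relations.epi _ (@IsIso.epi_of_iso _ _ _ _ _ i.isIso_hom))
  have hS : (ShortComplex.mk (kernel.ι p) p (kernel.condition p)).ShortExact :=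
    { exact := ShortComplex.exact_of_f_is_kernel _ (kernelIsKernel p) }
  exact pcAt₃ hS.singleTriangle_distinguished (m := -1) (pcAt_inD_of_epi q _)
    (pcAt_inD_freeMod n (-1) _)

/-- The criterion for finite type. -/
theorem isPseudoCoherentD_zero_iff (M : X.Modules) :
    DCoh.IsPseudoCoherentD 0 (DCoh.inD X M) ↔ CohB1.IsFT M := by
  rw [iff_forall]
  refine ⟨fun h => ?_, pcAt_inD_of_isFT⟩
  have h2 : ∀ x, PCAt 0 (DCoh.inD X M) x := h
  exact @Modules.SupportOps.isFT_of_iso _ _ _ (HDInD M) (Top.isFT_top h2 fun i hi => isZero_HD_inD M i hi.ne')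

/-- The criterion for finite presentation. -/
theorem isPseudoCoherentD_negOne_iff (M : X.Modules) :
    DCoh.IsPseudoCoherentD (-1) (DCoh.inD X M) ↔ CohB1.IsFP M := by
  rw [iff_forall]
  refine ⟨fun h => ?_, pcAt_inD_of_isFP⟩
  exact (SheafOfModules.isFinitePresentation X.ringCatSheaf).prop_of_iso (HDInD M)
    (Top.isFP_top h fun i hi => isZero_HD_inD M i (by omega))

end Groth.Agent.H56.PCSingle
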