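import Groth.Agent.H56.PCSingle.Basic
import Groth.Agent.Lib.Modules.AlgMod

/-!
Quasi-coherence of the cohomology of pseudo-coherent objects.
-/

set_option autoImplicit false
set_option linter.style.haveILetI false

universe u

open CategoryTheory Limits AlgebraicGeometry TopologicalSpace

namespace Groth.Agent.H56.PCSingle

open Groth.Agent.Lib Groth.Agent.Lib.Perfect.Basic Groth.Agent.Lib.Perfect.PseudoCoh
open Groth.Agent.Lib.Perfect

attribute [local instance] HasDerivedCategory.standard

variable {X U : Scheme.{u}}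

theorem isQCoh_restrict (j : U ⟶ X) [IsOpenImmersion j] (M : X.Modules) [M.IsQuasicoherent] :
    (M.restrict j).IsQuasicoherent :=
  have := QCoh.Pullback.isQCoh_pullback j M
  (SheafOfModules.isQuasicoherent (R := U.ringCatSheaf)).prop_of_iso
    ((Scheme.Modules.restrictFunctorIsoPullback j).app M).symm ‹_›

/-- Restricting along `j` and then to `j.opensRange` is restricting to the latter. -/
noncomputable def restrictRangeIso (j : U ⟶ X) [IsOpenImmersion j] (M : X.Modules) :
    (Scheme.Modules.restrictFunctor j.isoOpensRange.inv).obj (M.restrict j) ≅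
      M.restrict j.opensRange.ι :=
  ((Scheme.Modules.restrictFunctorComp j.isoOpensRange.inv j).app M).symm ≪≫
    (Scheme.Modules.restrictFunctorCongr (Scheme.Hom.isoOpensRange_inv_comp j)).app M

theorem isQCoh_cycles (E : CochainComplex U.Modules ℤ) (hE : DCoh.IsStrictlyPerfect E) (i : ℤ) :
    (kernel (E.d i (i + 1))).IsQuasicoherent := by
  have := TensorMod.QCohInv.isQCoh_of_isFinLocFree (hE.2 i)
  have := TensorMod.QCohInv.isQCoh_of_isFinLocFree (hE.2 (i + 1))
  exact QCoh.Closure.isQCoh_kernel _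

theorem isQCoh_HD {K : DCoh.D X} {m : ℤ} (hK : ∀ x, PCAt m K x) (i : ℤ) (hi : m < i) :
    Coh.IsQCoh (DCoh.HD K i) := by
  refine Modules.AlgMod.isQCoh_of_restrict fun x => ?_
  obtain ⟨U, j, _, y, E, α, hy, hE, hα⟩ := hK x
  refine ⟨j.opensRange, ⟨y, hy⟩, ?_⟩
  have := hα.1 i hi
  have := TensorMod.QCohInv.isQCoh_of_isFinLocFree (hE.2 (i - 1))
  have := isQCoh_cycles E hE i
  have hck := QCoh.Closure.isQCoh_cokernel
    (kernel.lift (E.d i (i + 1)) (E.d (i - 1) i) (E.d_comp_d _ _ _))
  have hH : (E.homology i).IsQuasicoherent :=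
    CohBasics.Closure.isQCoh_of_iso (Top.homologyIsoCokernel E i).symm
  have : ((HomologicalComplex.homologyFunctor U.Modules (ComplexShape.up ℤ) i).obj E).IsQuasicoherent := hH
  have : ((DCoh.HD K i).restrict j).IsQuasicoherent :=
    CohBasics.Closure.isQCoh_of_iso
      (((DerivedCategory.homologyFunctorFactors U.Modules i).app E).symm ≪≫
        asIso ((DerivedCategory.homologyFunctor U.Modules i).map α) ≪≫ Coherent.homologyIso j K i)
  have := isQCoh_restrict j.isoOpensRange.inv ((DCoh.HD K i).restrict j)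
  exact CohBasics.Closure.isQCoh_of_iso
    (restrictRangeIso j (DCoh.HD K i))

theorem exists_qcoh_epi_HD {K : DCoh.D X} {m : ℤ} (hK : ∀ x, PCAt m K x) (x : X) :
    ∃ (V : X.Opens) (Q : (V : Scheme.{u}).Modules)
      (π : Q ⟶ (Scheme.Modules.restrictFunctor V.ι).obj (DCoh.HD K m)),
      x ∈ V ∧ Coh.IsQCoh Q ∧ Epi π := by
  obtain ⟨U, j, _, y, E, α, hy, hE, hα⟩ := hK x
  let S := Scheme.Modules.restrictFunctor j.isoOpensRange.inv
  have : PreservesColimitsOfSize.{0, 0} S :=
    (Scheme.Modules.restrictAdjunction j.isoOpensRange.inv).leftAdjoint_preservesColimits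
  let δ := kernel.lift (E.d m (m + 1)) (E.d (m - 1) m) (E.d_comp_d _ _ _)
  let q₁ : kernel (E.d m (m + 1)) ⟶ (DCoh.HD K m).restrict j :=
    cokernel.π δ ≫ (Top.homologyIsoCokernel E m).inv ≫
      ((DerivedCategory.homologyFunctorFactors U.Modules m).app E).inv ≫
      (DerivedCategory.homologyFunctor U.Modules m).map α ≫ (Coherent.homologyIso j K m).hom
  have : Epi q₁ := by
    have := hα.2
    exact epi_comp' inferInstance (epi_comp' inferInstance (epi_comp' inferInstance
      (epi_comp' this inferInstance)))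
  have := isQCoh_cycles E hE m
  exact ⟨j.opensRange, S.obj (kernel (E.d m (m + 1))), S.map q₁ ≫ (restrictRangeIso j _).hom,
    ⟨y, hy⟩, isQCoh_restrict _ _, epi_comp _ _⟩

end Groth.Agent.H56.PCSingle
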