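import Groth.Agent.H56.PCSingle.Basic
import Mathlib.Algebra.Homology.DerivedCategory.ShortExact
import Groth.Agent.Lib.DR.Basic

/-!
Pseudo-coherence from terms or from cohomology, and quasi-coherence of the cohomology.
-/

set_option autoImplicit false
set_option linter.style.haveILetI false

universe w v u

open CategoryTheory Limits AlgebraicGeometry TopologicalSpace CategoryTheory.Pretriangulated

namespace Groth.Agent.H56.PCSingle

open Groth.Agent.Lib Groth.Agent.Lib.Perfect.Basic Groth.Agent.Lib.Perfect.PseudoCoh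
open Groth.Agent.Lib.Perfect

section

variable {C : Type u} [Category.{v} C] [Abelian C] [HasDerivedCategory.{w} C]

/-- Splitting off the bottom term of a complex. -/
lemma exists_bottom (E : CochainComplex C ℤ) (a : ℤ) (ha : ∀ i, i < a → IsZero (E.X i)) :
    ∃ (f : DerivedCategory.Q.obj (Stupid.trunc E (a + 1)) ⟶ DerivedCategory.Q.obj E)
      (g : DerivedCategory.Q.obj E ⟶ (DerivedCategory.singleFunctor C a).obj (E.X a))
      (k : (DerivedCategory.singleFunctor C a).obj (E.X a) ⟶
        (DerivedCategory.Q.obj (Stupid.trunc E (a + 1)))⟦(1 : ℤ)⟧),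
      Triangle.mk f g k ∈ distTriang _ := by
  let φ := Stupid.ι E (a + 1)
  have hz : ∀ i, i < a + 1 → IsZero ((Stupid.trunc E (a + 1)).X i) := Stupid.isZero_trunc E _
  have hiso : ∀ i, a + 1 ≤ i → IsIso (φ.f i) := Stupid.isIso_ι E _
  have hmono : ∀ i, Mono (φ.f i) := fun i => by
    by_cases h : a + 1 ≤ i
    · have := hiso i h
      infer_instance
    · exact ⟨fun _ _ _ => (hz i (not_le.1 h)).eq_of_tgt _ _⟩
  have : Mono φ := HomologicalComplex.mono_of_mono_f φ hmono
  let T := ShortComplex.mk φ (cokernel.π φ) (cokernel.condition φ)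
  have hT : T.ShortExact :=
    { exact := ShortComplex.exact_of_g_is_cokernel _ (cokernelIsCokernel φ) }
  have hTi : ∀ i, (T.map (HomologicalComplex.eval C (.up ℤ) i)).ShortExact :=
    fun i => hT.map_of_exact _
  have hC : ∀ i, i ≠ a → IsZero ((cokernel φ).X i) := fun i hi => by
    have := (hTi i).epi_g
    by_cases h : a + 1 ≤ i
    · have := hiso i h
      refine IsZero.of_epi_eq_zero ((cokernel.π φ).f i) ?_
      rw [← cancel_epi (φ.f i), ← HomologicalComplex.comp_f, cokernel.condition]
      simp
    · exact IsZero.of_epi ((cokernel.π φ).f i) (ha i (by lia))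
  have : (cokernel φ).IsStrictlyGE a :=
    ((cokernel φ).isStrictlyGE_iff a).2 fun i hi => hC i (by lia)
  have : (cokernel φ).IsStrictlyLE a :=
    ((cokernel φ).isStrictlyLE_iff a).2 fun i hi => hC i (by lia)
  obtain ⟨M, ⟨e⟩⟩ := CochainComplex.exists_iso_single (cokernel φ) a
  have : IsIso ((cokernel.π φ).f a) := (hTi a).isIso_g_iff.2 (hz a (by lia))
  let e' : E.X a ≅ M := asIso ((cokernel.π φ).f a) ≪≫
    (HomologicalComplex.eval _ _ a).mapIso e ≪≫ HomologicalComplex.singleObjXSelf (.up ℤ) a M
  let i₃ : DerivedCategory.Q.obj (cokernel φ) ≅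
      (DerivedCategory.singleFunctor C a).obj (E.X a) :=
    DerivedCategory.Q.mapIso e ≪≫ ((DerivedCategory.singleFunctorIsoCompQ _ a).app M).symm ≪≫
      (DerivedCategory.singleFunctor _ a).mapIso e'.symm
  refine ⟨DerivedCategory.Q.map φ, DerivedCategory.Q.map (cokernel.π φ) ≫ i₃.hom,
    i₃.inv ≫ DerivedCategory.triangleOfSESδ hT, ?_⟩
  exact isomorphic_distinguished _ (DerivedCategory.triangleOfSES_distinguished hT) _
    (Triangle.isoMk _ _ (Iso.refl _) (Iso.refl _) i₃.symm
      ((Category.comp_id _).trans (Category.id_comp _).symm)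
      ((Category.assoc _ _ _).trans ((congrArg (DerivedCategory.Q.map (cokernel.π φ) ≫ ·)
        i₃.hom_inv_id).trans ((Category.comp_id _).trans (Category.id_comp _).symm)))
      ((congrArg (_ ≫ ·) ((shiftFunctor (DerivedCategory C) (1 : ℤ)).map_id _)).trans
        (Category.comp_id _)))

end

attribute [local instance] HasDerivedCategory.standard

variable {X : Scheme.{u}}

/-- Pseudo-coherence of a module in degree `b`. -/
theorem pcAt_single {M : X.Modules} {m b : ℤ} {x : X} (h : PCAt (m - b) (DCoh.inD X M) x) :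
    PCAt m ((DerivedCategory.singleFunctor X.Modules b).obj M) x :=
  (h.shift (-b) m (by omega)).of_iso
    (((DerivedCategory.singleFunctors X.Modules).shiftIso (-b) b 0 (by omega)).app M)

theorem pcAt_inD_of_isZero {M : X.Modules} (hM : IsZero M) (m : ℤ) (x : X) :
    PCAt m (DCoh.inD X M) x :=
  pcAt_of_vanish (fun i _ => (DerivedCategory.homologyFunctor X.Modules i).map_isZero
    ((DerivedCategory.singleFunctor X.Modules 0).map_isZero hM)) x

/-- An object with pseudo-coherent cohomology sheaves is pseudo-coherent. -/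
theorem pcAt_of_homology (m : ℤ) (x : X) (K : DCoh.D X) (b : ℤ) [hb : K.IsLE b]
    (h : ∀ i, PCAt (m - i) (DCoh.inD X (DCoh.HD K i)) x) : PCAt m K x := by
  obtain ⟨k, hk⟩ : ∃ k : ℕ, b < m + k := ⟨(b + 1 - m).toNat, by omega⟩
  induction k generalizing K b with
  | zero => exact pcAt_of_vanish (fun i hi => DerivedCategory.isZero_of_isLE K b i (by omega)) x
  | succ k ih =>
    obtain ⟨P, M, f, g, δ, hd, hP, ⟨eM⟩, hiso⟩ := DR.Basic.exists_peel_top K b hb
    have : P.IsLE (b - 1) := hP
    refine pcAt₂ (T := Triangle.mk f g δ) hd (ih P (b - 1) (fun i => ?_) (by omega))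
      (pcAt_single ((h b).of_iso ((DerivedCategory.singleFunctor X.Modules 0).mapIso eM)))
    by_cases hi : i < b
    · have := hiso i hi
      exact (h i).of_iso ((DerivedCategory.singleFunctor X.Modules 0).mapIso
        (asIso ((DerivedCategory.homologyFunctor X.Modules i).map f)).symm)
    · exact pcAt_inD_of_isZero (DerivedCategory.isZero_of_isLE P (b - 1) i (by omega)) _ x

/-- A bounded above complex with pseudo-coherent terms is pseudo-coherent. -/
theorem pcAt_of_termwise (m : ℤ) (x : X) (F : CochainComplex X.Modules ℤ) (b : ℤ)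
    (hb : ∀ i, b < i → IsZero (F.X i)) (h : ∀ i, PCAt (m - i) (DCoh.inD X (F.X i)) x) :
    PCAt m (DerivedCategory.Q.obj F) x := by
  have key : ∀ (k : ℕ) (a : ℤ) (E : CochainComplex X.Modules ℤ), b < a + k →
      (∀ i, i < a → IsZero (E.X i)) → (∀ i, b < i → IsZero (E.X i)) →
      (∀ i, PCAt (m - i) (DCoh.inD X (E.X i)) x) → PCAt m (DerivedCategory.Q.obj E) x := by
    intro k
    induction k with
    | zero =>
      intro a E hk hlo hhi _
      refine pcAt_of_vanish (fun i _ => ?_) x
      refine (HomologicalComplex.ExactAt.isZero_homology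
        (HomologicalComplex.ExactAt.of_isZero (?_ : IsZero (E.X i)))).of_iso
        ((DerivedCategory.homologyFunctorFactors X.Modules i).app E)
      by_cases hi : i < a
      · exact hlo i hi
      · exact hhi i (by omega)
    | succ k ih =>
      intro a E hk hlo hhi hE
      obtain ⟨f, g, δ, hd⟩ := exists_bottom E a hlo
      refine pcAt₂ (T := Triangle.mk f g δ) hd
        (ih (a + 1) _ (by omega) (Stupid.isZero_trunc E _) (fun i hi => ?_) fun i => ?_)
        (pcAt_single (hE a))
      · have : Mono ((Stupid.ι E (a + 1)).f i) := inferInstanceAs (Mono (kernel.ι _))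
        exact IsZero.of_mono ((Stupid.ι E (a + 1)).f i) (hhi i hi)
      · by_cases hi : i < a + 1
        · exact pcAt_inD_of_isZero (Stupid.isZero_trunc E _ i hi) _ x
        · have := Stupid.isIso_ι E (a + 1) i (by omega)
          exact (hE i).of_iso ((DerivedCategory.singleFunctor X.Modules 0).mapIso
            (asIso ((Stupid.ι E (a + 1)).f i)).symm)
  obtain ⟨k, hk⟩ : ∃ k : ℕ, b < m + k := ⟨(b + 1 - m).toNat, by omega⟩
  have h' := key k m (Stupid.trunc F m) hk (Stupid.isZero_trunc F m) (fun i hi => ?_) fun i => ?_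
  · obtain ⟨U, j, _, y, E, α, hy, hE, hα⟩ := h'
    exact ⟨U, j, inferInstance, y, E, α ≫ (RD j).map (DerivedCategory.Q.map (Stupid.ι F m)), hy, hE,
      hα.comp (good_restrict j (Stupid.good_ι F m))⟩
  · have : Mono ((Stupid.ι F m).f i) := inferInstanceAs (Mono (kernel.ι _))
    exact IsZero.of_mono ((Stupid.ι F m).f i) (hb i hi)
  · by_cases hi : i < m
    · exact pcAt_inD_of_isZero (Stupid.isZero_trunc F _ i hi) _ x
    · have := Stupid.isIso_ι F m i (by omega)
      exact (h i).of_iso ((DerivedCategory.singleFunctor X.Modules 0).mapIso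
        (asIso ((Stupid.ι F m).f i)).symm)

end Groth.Agent.H56.PCSingle
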